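import Mathlib
import Cfsg.Prelude.Def_GeometricClasses
import Cfsg.Agent.Helper2.SU.Main
import Cfsg.Agent.Helper28.S5658.Lib
import Cfsg.Agent.Helper19.Mono.Defs

/-! # S5655, case `k = 1` (driver helper7): the unitary monomial group `(q+1)^(n-1).S_n` is maximal in `SU_n(q)`, `n ≥ 13`.

Model (same as `Cfsg.Agent.Helper2.SUGen` / `Cfsg.Agent.S5658P`): `K` a field with `q ^ 2` elements, `D : Frob K q`
(`D.σ x = x ^ q`), `h = Cfsg.hermForm n K q` (`h x y = ∑ x i * (y i) ^ q`), `Pres A` = `A` preserves `h`,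
`T v c = Cfsg.unitaryTransvection n q v c` (`z ↦ z + (c * h z v) • v`): a unitary transvection when `h v v = 0`,
`σ c = -c`, and a QUASI-REFLECTION `r_v(ε)`, `ε = 1 + c`, when `h v v = 1` and `(1 + c) * σ (1 + c) = 1`.
`A ∈ MS M` (`Cfsg.Agent.Helper28.SimMax.MS`) = the matrix `A` is (the matrix of) an element of `M ≤ GL`.
`IsMono`, `ColMono`, `SuppOn` are those of `Cfsg.Agent.MonoP` (helper19's S5634 definitions). -/

set_option autoImplicit false

namespace Cfsg.Agent.S5655K1

open Matrix
open Cfsg.Agent.S2644 Cfsg.Agent.Helper2.SUGen Cfsg.Agent.Helper28.SimMax Cfsg.Agent.MonoP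

variable {K : Type*} [Field K] {q n : ℕ}

/-- the ambient group `SU_n(q) = GU ⊓ SL` as a subgroup of `GL` -/
abbrev SUG (n : ℕ) (K : Type*) [Field K] (q : ℕ) : Subgroup (Matrix.GeneralLinearGroup (Fin n) K) :=
  Cfsg.GU n K q ⊓ Cfsg.Geo.specialLinear (Fin n) K

/-- `ε` has norm one (`ε ∈ μ_{q+1}`) -/
def IsU (D : Frob K q) (ε : K) : Prop := ε * D.σ ε = 1

/-- the norm `x * σ x` -/
def nm (D : Frob K q) (x : K) : K := x * D.σ x

/-- `M` contains `N`, the monomial matrices of `SU_n(q)` for the standard frame `e_i` -/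
def HasN (q : ℕ) (M : Subgroup (Matrix.GeneralLinearGroup (Fin n) K)) : Prop :=
  ∀ A : Matrix (Fin n) (Fin n) K, IsMono A → Pres (q := q) A → A.det = 1 → A ∈ MS M

/-- every element of `M` is monomial -/
def AllMono (M : Subgroup (Matrix.GeneralLinearGroup (Fin n) K)) : Prop :=
  ∀ A ∈ MS M, IsMono A

/-- property (B): an element of `M` one of whose columns has a single non-zero entry is monomial -/
def PropB (M : Subgroup (Matrix.GeneralLinearGroup (Fin n) K)) : Prop :=
  ∀ A ∈ MS M, ColMono A → IsMono A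

/-- the monomial matrix `e_j ↦ d j • e_{s j}` -/
def mono (s : Equiv.Perm (Fin n)) (d : Fin n → K) : Matrix (Fin n) (Fin n) K :=
  fun i j => if i = s j then d j else 0

/-- the twisted swap `e_a ↦ t • e_b`, `e_b ↦ t⁻¹ • e_a`, identity on the other `e_k` (`a ≠ b`, `t ≠ 0` intended);
determinant `-1`, an isometry when `t` has norm one; for `q` even it is the transvection with centre
`e_a + t • e_b`. -/
def tsw (a b : Fin n) (t : K) : Matrix (Fin n) (Fin n) K :=
  mono (Equiv.swap a b) (Function.update (Function.update (fun _ => (1 : K)) a t) b t⁻¹)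

open scoped Classical in
/-- the support of a vector -/
noncomputable def supp (v : Fin n → K) : Finset (Fin n) := Finset.univ.filter (fun i => v i ≠ 0)

/-- the weight of a vector -/
noncomputable def wt (v : Fin n → K) : ℕ := (supp v).card

/-- `H` contains every unitary monomial matrix which is the identity outside the `A × A` block (`H ≤ GU_n`, no
determinant condition) -/
def FullOn (q : ℕ) (H : Subgroup (Matrix.GeneralLinearGroup (Fin n) K)) (A : Finset (Fin n)) : Prop :=
  ∀ B : Matrix (Fin n) (Fin n) K, IsMono B → Pres (q := q) B → SuppOn A B → B ∈ MS H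

/-- `H` contains the full group `R_w = {r_w(ε)}` of quasi-reflections with centre the unit vector `w` -/
def HasR (D : Frob K q) (H : Subgroup (Matrix.GeneralLinearGroup (Fin n) K)) (w : Fin n → K) : Prop :=
  ∀ c : K, IsU D (1 + c) → Cfsg.unitaryTransvection n q w c ∈ MS H

/-- `H` contains `SU(W_ab) × 1`: every isometry of determinant one which is the identity outside the
`{a,b} × {a,b}` block -/
def HasSU2 (q : ℕ) (H : Subgroup (Matrix.GeneralLinearGroup (Fin n) K)) (a b : Fin n) : Prop :=
  ∀ B : Matrix (Fin n) (Fin n) K, Pres (q := q) B → B.det = 1 → SuppOn {a, b} B → B ∈ MS H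

end Cfsg.Agent.S5655K1
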