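import Mathlib
import Cfsg.Agent.Helper7.S5655.Defs

/-! # S5655 `k = 1`: calculus of the monomial matrices `mono s d`, twisted swaps and diagonal matrices. -/

set_option autoImplicit false

namespace Cfsg.Agent.S5655K1

open Matrix
open Cfsg.Agent.S2644 Cfsg.Agent.Helper2.SUGen Cfsg.Agent.Helper28.SimMax Cfsg.Agent.MonoP

variable {K : Type*} [Field K] {q n : ℕ}

local notation "h" => Cfsg.hermForm n K q

theorem mono_apply (s : Equiv.Perm (Fin n)) (d : Fin n → K) (i j : Fin n) :
    mono s d i j = if i = s j then d j else 0 := rfl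

theorem mono_mulVec (s : Equiv.Perm (Fin n)) (d : Fin n → K) (x : Fin n → K) (i : Fin n) :
    (mono s d *ᵥ x) i = d (s.symm i) * x (s.symm i) := by
  rw [Matrix.mulVec, dotProduct, Finset.sum_eq_single (s.symm i)]
  · rw [mono_apply, if_pos (by simp)]
  · intro j _ hj
    rw [mono_apply, if_neg, zero_mul]
    intro hi
    apply hj
    rw [hi, Equiv.symm_apply_apply]
  · intro hi
    exact absurd (Finset.mem_univ _) hi

theorem mono_mulVec_single (s : Equiv.Perm (Fin n)) (d : Fin n → K) (j : Fin n) :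
    mono s d *ᵥ Pi.single j 1 = d j • Pi.single (s j) 1 := by
  funext i
  rw [mono_mulVec, Pi.smul_apply, smul_eq_mul]
  by_cases hi : i = s j
  · subst hi
    simp
  · have : s.symm i ≠ j := by
      intro hh
      apply hi
      rw [← hh, Equiv.apply_symm_apply]
    rw [Pi.single_eq_of_ne this, Pi.single_eq_of_ne hi, mul_zero, mul_zero]

theorem mono_isMono (s : Equiv.Perm (Fin n)) (d : Fin n → K) : IsMono (mono s d) :=
  ⟨s, fun i j hij => by rw [mono_apply, if_neg hij]⟩

theorem mono_mul (s s' : Equiv.Perm (Fin n)) (d d' : Fin n → K) :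
    mono s d * mono s' d' = mono (s * s') (fun j => d (s' j) * d' j) := by
  apply mat_ext
  intro x
  funext i
  rw [← Matrix.mulVec_mulVec, mono_mulVec, mono_mulVec, mono_mulVec]
  simp only [Equiv.Perm.mul_def, Equiv.symm_trans_apply, Equiv.apply_symm_apply]
  ring

theorem mono_one : mono (1 : Equiv.Perm (Fin n)) (fun _ => (1 : K)) = 1 := by
  ext i j
  rw [mono_apply, Matrix.one_apply, Equiv.Perm.one_apply]

theorem mono_eq_diagonal (d : Fin n → K) : mono (1 : Equiv.Perm (Fin n)) d = Matrix.diagonal d := by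
  ext i j
  rw [mono_apply, Matrix.diagonal_apply]
  by_cases hij : i = j
  · subst hij; simp
  · simp [hij]

theorem mono_eq_perm_mul_diagonal (s : Equiv.Perm (Fin n)) (d : Fin n → K) :
    mono s d = (s.symm.toPEquiv.toMatrix : Matrix (Fin n) (Fin n) K) * Matrix.diagonal d := by
  ext i j
  rw [Matrix.mul_diagonal, mono_apply, PEquiv.toMatrix_apply]
  by_cases hi : i = s j
  · subst hi
    rw [if_pos rfl, if_pos (by simp), one_mul]
  · have : ¬ s.symm i = j := by
      intro hh; apply hi; rw [← hh, Equiv.apply_symm_apply]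
    rw [if_neg hi, if_neg (by simpa using this), zero_mul]

theorem mono_det (s : Equiv.Perm (Fin n)) (d : Fin n → K) :
    (mono s d).det = ((Equiv.Perm.sign s : ℤ) : K) * ∏ j, d j := by
  rw [mono_eq_perm_mul_diagonal, Matrix.det_mul, Matrix.det_permutation, Matrix.det_diagonal,
    Equiv.Perm.sign_symm]

section frob

variable (D : Frob K q)

theorem h_apply_sigma (x y : Fin n → K) : h x y = ∑ i, x i * D.σ (y i) := by
  unfold Cfsg.hermForm
  apply Finset.sum_congr rfl
  intro i _
  rw [D.pow]

theorem mono_pres (s : Equiv.Perm (Fin n)) (d : Fin n → K) (hd : ∀ j, IsU D (d j)) :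
    Pres (q := q) (mono s d) := by
  intro x y
  rw [h_apply_sigma D, h_apply_sigma D]
  rw [← Equiv.sum_comp s]
  apply Finset.sum_congr rfl
  intro i _
  rw [mono_mulVec, mono_mulVec, Equiv.symm_apply_apply, map_mul]
  have := hd i
  unfold IsU at this
  linear_combination (x i * D.σ (y i)) * this

theorem diagonal_pres (d : Fin n → K) (hd : ∀ j, IsU D (d j)) :
    Pres (q := q) (Matrix.diagonal d) := by
  rw [← mono_eq_diagonal]
  exact mono_pres D 1 d hd

theorem HasN.mono_mem {M : Subgroup (Matrix.GeneralLinearGroup (Fin n) K)} (hN : HasN q M)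
    (s : Equiv.Perm (Fin n)) (d : Fin n → K) (hd : ∀ j, IsU D (d j))
    (hdet : ((Equiv.Perm.sign s : ℤ) : K) * ∏ j, d j = 1) : mono s d ∈ MS M :=
  hN _ (mono_isMono s d) (mono_pres D s d hd) (by rw [mono_det, hdet])

theorem HasN.diagonal_mem {M : Subgroup (Matrix.GeneralLinearGroup (Fin n) K)} (hN : HasN q M)
    (d : Fin n → K) (hd : ∀ j, IsU D (d j)) (hdet : ∏ j, d j = 1) : Matrix.diagonal d ∈ MS M := by
  rw [← mono_eq_diagonal]
  apply HasN.mono_mem D hN 1 d hd
  simp [hdet]

theorem IsU.one : IsU D (1 : K) := by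
  unfold IsU; rw [map_one, mul_one]

theorem IsU.mul {a b : K} (ha : IsU D a) (hb : IsU D b) : IsU D (a * b) := by
  unfold IsU at *
  rw [map_mul]
  linear_combination (b * D.σ b) * ha + hb

theorem IsU.ne_zero {a : K} (ha : IsU D a) : a ≠ 0 := by
  rintro rfl
  unfold IsU at ha
  simp at ha

theorem IsU.inv {a : K} (ha : IsU D a) : IsU D a⁻¹ := by
  have h0 := IsU.ne_zero D ha
  unfold IsU at *
  rw [map_inv₀, ← mul_inv, ha, inv_one]

theorem IsU.sigma {a : K} (ha : IsU D a) : D.σ a = a⁻¹ := by
  have h0 := IsU.ne_zero D ha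
  unfold IsU at ha
  field_simp
  linear_combination ha

theorem IsU.neg {a : K} (ha : IsU D a) : IsU D (-a) := by
  unfold IsU at *
  rw [map_neg]
  linear_combination ha

end frob

/-! ### twisted swaps -/

theorem tsw_mulVec_a (a b : Fin n) (t : K) (x : Fin n → K) :
    (tsw a b t *ᵥ x) a = t⁻¹ * x b := by
  unfold tsw
  rw [mono_mulVec]
  simp [Equiv.swap_apply_left]

theorem tsw_mulVec_b {a b : Fin n} (hab : a ≠ b) (t : K) (x : Fin n → K) :
    (tsw a b t *ᵥ x) b = t * x a := by
  unfold tsw
  rw [mono_mulVec]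
  simp [Equiv.swap_apply_right, hab]

theorem tsw_mulVec_of_ne {a b : Fin n} (t : K) (x : Fin n → K) {k : Fin n} (hka : k ≠ a)
    (hkb : k ≠ b) : (tsw a b t *ᵥ x) k = x k := by
  unfold tsw
  rw [mono_mulVec]
  simp [Equiv.swap_apply_of_ne_of_ne hka hkb, hka, hkb]

theorem tsw_det {a b : Fin n} (hab : a ≠ b) {t : K} (ht : t ≠ 0) : (tsw a b t).det = -1 := by
  unfold tsw
  rw [mono_det, Equiv.Perm.sign_swap hab]
  have : ∏ j, (Function.update (Function.update (fun _ => (1 : K)) a t) b t⁻¹) j = 1 := by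
    rw [Finset.prod_eq_mul_of_mem a b (Finset.mem_univ _) (Finset.mem_univ _) hab]
    · simp [hab, ht]
    · intro c _ hc
      simp [hc.1, hc.2]
  rw [this]
  simp

theorem tsw_isMono (a b : Fin n) (t : K) : IsMono (tsw a b t) := mono_isMono _ _

theorem tsw_pres (D : Frob K q) (a b : Fin n) {t : K} (ht : IsU D t) : Pres (q := q) (tsw a b t) := by
  unfold tsw
  apply mono_pres D
  intro j
  by_cases hjb : j = b
  · subst hjb
    simp only [Function.update_self]
    exact IsU.inv D ht
  · rw [Function.update_of_ne hjb]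
    by_cases hja : j = a
    · subst hja
      simp only [Function.update_self]
      exact ht
    · rw [Function.update_of_ne hja]
      exact IsU.one D

end Cfsg.Agent.S5655K1
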