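import Mathlib
import Cfsg.Agent.Helper7.S5655.Defs

/-! # S5655 `k = 1`: further definitions (conjugate transpose, product of four twisted swaps). -/

set_option autoImplicit false

namespace Cfsg.Agent.S5655K1

open Matrix
open Cfsg.Agent.S2644 Cfsg.Agent.Helper2.SUGen Cfsg.Agent.Helper28.SimMax Cfsg.Agent.MonoP

variable {K : Type*} [Field K] {q n : ℕ}

/-- the conjugate transpose (the inverse of an isometry) -/
def ct (D : Frob K q) (A : Matrix (Fin n) (Fin n) K) : Matrix (Fin n) (Fin n) K := (A.map D.σ)ᵀ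

theorem ct_apply (D : Frob K q) (A : Matrix (Fin n) (Fin n) K) (i j : Fin n) :
    ct D A i j = D.σ (A j i) := rfl

/-- the product of four twisted swaps on the eight distinct indices `r i`, `r' i` -/
def n4 (r r' : Fin 4 → Fin n) (t : Fin 4 → K) : Matrix (Fin n) (Fin n) K :=
  tsw (r 0) (r' 0) (t 0) * tsw (r 1) (r' 1) (t 1) * tsw (r 2) (r' 2) (t 2) * tsw (r 3) (r' 3) (t 3)

end Cfsg.Agent.S5655K1
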