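import Mathlib
import Cfsg.Agent.Helper7.S5655.Defs2

/-! # S5655 `k = 1`: definitions for the section chapter (SEC). -/

set_option autoImplicit false

namespace Cfsg.Agent.S5655K1

open Matrix
open Cfsg.Agent.S2644 Cfsg.Agent.Helper2.SUGen Cfsg.Agent.Helper28.SimMax Cfsg.Agent.MonoP

variable {K : Type*} [Field K] {q n : ℕ}

/-- the diagonal matrix with `ε` at `o` and `1` elsewhere (`= T e_o (ε - 1)`, the quasi-reflection `r_{e_o}(ε)`) -/
def d1m (o : Fin n) (ε : K) : Matrix (Fin n) (Fin n) K := Matrix.diagonal (Function.update (fun _ => (1 : K)) o ε)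

/-- the defining property of the section group `H_o = Stab_M⟨e_o⟩ · R_{e_o}` -/
def IsSec (D : Frob K q) (M : Subgroup (Matrix.GeneralLinearGroup (Fin n) K)) (o : Fin n)
    (B : Matrix (Fin n) (Fin n) K) : Prop :=
  Pres (q := q) B ∧ (∀ i, i ≠ o → B i o = 0) ∧ ∃ ε : K, IsU D ε ∧ B * d1m o ε ∈ MS M

end Cfsg.Agent.S5655K1
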