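import Mathlib
import Cfsg.Agent.Helper7.S5655.Defs3

/-! # S5655 `k = 1`: definitions for the rank two lemma P2 (2×2 reduction). -/

set_option autoImplicit false

namespace Cfsg.Agent.S5655K1

open Matrix
open Cfsg.Agent.S2644 Cfsg.Agent.Helper2.SUGen Cfsg.Agent.Helper28.SimMax Cfsg.Agent.MonoP

variable {K : Type*} [Field K] {n : ℕ}

/-- the embedding of `2 × 2` matrices along a pair of vectors `e, e'` (a monoid homomorphism when the pair is
orthonormal): `emb2 A` acts as `A` on `⟨e, e'⟩` (coordinates w.r.t. `e, e'`) and as the identity on `⟨e, e'⟩^⊥`. -/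
def emb2 (q : ℕ) (e e' : Fin n → K) (A : Matrix (Fin 2) (Fin 2) K) : Matrix (Fin n) (Fin n) K :=
  1 + ∑ i : Fin 2, ∑ j : Fin 2, (A i j - (1 : Matrix (Fin 2) (Fin 2) K) i j) •
    vecMulVec (![e, e'] i) (cj (q := q) (![e, e'] j))

/-- the product `r_{e₀}(x y) * r_w(x / y)` of two quasi-reflections of `K²`, `e₀ = (1,0)`, `w = (α, β)` -/
def g2 (q : ℕ) (α β x y : K) : Matrix (Fin 2) (Fin 2) K :=
  Cfsg.unitaryTransvection 2 q ![1, 0] (x * y - 1) * Cfsg.unitaryTransvection 2 q ![α, β] (x * y⁻¹ - 1)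

end Cfsg.Agent.S5655K1
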