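import Mathlib
import Cfsg.Agent.Helper7.S5655.Defs2
import Cfsg.Agent.Helper7.S5655.MonoLib
import Cfsg.Agent.Helper20.S5655SUPP
import Cfsg.Agent.Helper20.S5655SUPPROW
import Cfsg.Agent.Helper25.S5655ZEROA
import Cfsg.Agent.Helper19.S5655ZEROB
import Cfsg.Agent.Helper21.S5655TT

/-! # S5655 `k = 1`: the chain for `q` odd (assembly). -/

set_option autoImplicit false

namespace Cfsg.Agent.S5655K1

open Matrix
open Cfsg.Agent.S2644 Cfsg.Agent.Helper2.SUGen Cfsg.Agent.Helper28.SimMax Cfsg.Agent.MonoP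

variable {K : Type*} [Field K] {q n : ℕ}

/-- the chain for `q` odd: under (B) every element of `M` is monomial -/
theorem ODD.main (D : Frob K q) [Fintype K] (hK : Fintype.card K = q ^ 2) (hq : 3 ≤ q) (hodd : Odd q)
    (hn : 13 ≤ n) (M : Subgroup (Matrix.GeneralLinearGroup (Fin n) K)) (hM : M ≤ SUG n K q)
    (hN : HasN q M) (hB : PropB M) : AllMono M := by
  have hcol := fun A hA hnm => SUPP.col D hK hq (by omega) M hM hN hB A hA hnm
  have hrow := fun A hA hnm => SUPP.row D hK hq (by omega) M hM hN hB A hA hnm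
  apply TT.main D hK hq hn M hM hN
  intro A hA hnm
  by_cases hdiv : (q + 1) ∣ n
  · have hqn : q + 1 ≤ n := Nat.le_of_dvd (by omega) hdiv
    exact ZEROB.ne_zero D hK hq hodd hn hqn M hM hN hB hcol hrow A hA hnm
  · exact ZEROA.ne_zero D hK hq hn hdiv M hM hN hB hcol hrow A hA hnm

end Cfsg.Agent.S5655K1
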