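import Mathlib
import Cfsg.Agent.Helper7.S5655.Defs3
import Cfsg.Agent.Helper7.S5655.MonoLib
import Cfsg.Agent.Helper9.S5655SECNORM
import Cfsg.Agent.Helper25.S5655SECGRP
import Cfsg.Agent.Helper25.S5655SECFULL
import Cfsg.Agent.Helper17.S5655SECCOL
import Cfsg.Agent.Helper5.S5655SECDET
import Cfsg.Agent.Helper28.S5655SHRINK0

/-! # S5655 `k = 1`: sections at a coordinate (assembly): if (B) fails, `M` contains `SU(W_ab) × 1`
(modulo the rank two lemma, passed as the hypothesis `SHRINK.P2Hyp`). -/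

set_option autoImplicit false

namespace Cfsg.Agent.S5655K1

open Matrix
open Cfsg.Agent.S2644 Cfsg.Agent.Helper2.SUGen Cfsg.Agent.Helper28.SimMax Cfsg.Agent.MonoP

variable {K : Type*} [Field K] {q n : ℕ}

/-- if (B) fails, `M` contains `SU(W_ab) × 1` for some coordinate plane -/
theorem B.main_of_P2 (D : Frob K q) [Fintype K] (hK : Fintype.card K = q ^ 2) (hq : 3 ≤ q) (hn : 13 ≤ n)
    (hP2 : ∀ H : Subgroup (Matrix.GeneralLinearGroup (Fin n) K), SHRINK.P2Hyp D H)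
    (M : Subgroup (Matrix.GeneralLinearGroup (Fin n) K)) (hM : M ≤ SUG n K q) (hN : HasN q M)
    (hnB : ¬ PropB M) : ∃ a b : Fin n, a ≠ b ∧ HasSU2 q M a b := by
  obtain ⟨o, A₁, hA₁M, hnm, hcol⟩ := SECNORM.exists D (by omega) M hM hN hnB
  obtain ⟨H, hH⟩ := SECGRP.exists D M hM o
  have hA₁P : Pres (q := q) A₁ := Cfsg.Agent.S5658P.pres_of_MS hM hA₁M
  have hfull := SECFULL.fullOn D M hN o H hH
  have hA₁H : A₁ ∈ MS H := by
    obtain ⟨g, hg, rfl⟩ := hA₁M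
    refine ⟨g, (hH g).2 ⟨hA₁P, hcol, 1, IsU.one D, ?_⟩, rfl⟩
    have : d1m o (1 : K) = 1 := by
      unfold d1m
      rw [Function.update_eq_self]
      exact Matrix.diagonal_one
    rw [this, Matrix.mul_one]
    exact ⟨g, hg, rfl⟩
  obtain ⟨w, hw1, hwA, hw2, hR⟩ := SECCOL.exists D o H hfull A₁ hA₁H hA₁P hnm hcol
  obtain ⟨a, b, -, -, hab, h2⟩ :=
    SHRINK.main_of_P2 D hK hq H (hP2 H) (Finset.univ.erase o) hfull (wt w) w rfl hw1 hwA hw2 hR
  exact ⟨a, b, hab, SECDET.hasSU2 D M hM o H hH a b h2⟩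

end Cfsg.Agent.S5655K1
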