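import Mathlib
import Cfsg.Agent.Helper7.S5655.Odd
import Cfsg.Agent.Helper7.S5655.Sec
import Cfsg.Agent.Helper3.S5655EVIFACE
import Cfsg.Agent.Helper28.S5655GENALL
import Cfsg.Agent.Helper28.S5655TRANSPORT
import Cfsg.Agent.S0837

/-! # S5655 `k = 1`: the main theorem modulo the rank two lemma (hypothesis `SHRINK.P2Hyp`). -/

set_option autoImplicit false

namespace Cfsg.Agent.S5655K1

open Matrix
open Cfsg.Agent.S2644 Cfsg.Agent.Helper2.SUGen Cfsg.Agent.Helper28.SimMax Cfsg.Agent.MonoP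

variable {K : Type*} [Field K] {q n : ℕ}

/-- the theorem for the standard frame -/
theorem MAIN.std_of_P2 (D : Frob K q) [Fintype K] (hK : Fintype.card K = q ^ 2) (hn : 13 ≤ n)
    (hP2 : 3 ≤ q → ∀ H : Subgroup (Matrix.GeneralLinearGroup (Fin n) K), SHRINK.P2Hyp D H)
    (M : Subgroup (Matrix.GeneralLinearGroup (Fin n) K)) (hM : M ≤ SUG n K q) (hN : HasN q M) :
    AllMono M ∨ SUG n K q ≤ M := by
  have hq2 : 2 ≤ q := by
    have h1 : 1 < Fintype.card K := Fintype.one_lt_card
    rw [hK] at h1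
    by_contra hlt
    push Not at hlt
    interval_cases q <;> simp at h1
  rcases Nat.lt_or_ge q 3 with h3 | h3
  · have hq : q = 2 := by omega
    subst hq
    exact EV.main2 D hK hn M hM hN
  · by_cases hB : PropB M
    · left
      rcases Nat.even_or_odd q with heven | hodd
      · have hq4 : 4 ≤ q := by
          rcases heven with ⟨r, hr⟩
          omega
        exact EV.main4 D hK hq4 heven hn M hM hN hB
      · exact ODD.main D hK h3 hodd hn M hM hN hB
    · right
      obtain ⟨a, b, hab, h2⟩ := B.main_of_P2 D hK h3 hn (hP2 h3) M hM hN hB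
      exact GEN.main D hK h3 hn M hM hN a b hab h2

/-- **S5655, case `k = 1`**, with the Frobenius data, modulo the rank two lemma -/
theorem K1.maximal_of_P2 (D : Frob K q) [Fintype K] (hK : Fintype.card K = q ^ 2) (hn : 13 ≤ n)
    (hP2 : 3 ≤ q → ∀ H : Subgroup (Matrix.GeneralLinearGroup (Fin n) K), SHRINK.P2Hyp D H) {t : ℕ}
    (Dd : Fin t → Submodule K (Fin n → K))
    (hD : Cfsg.Geo.IsNondegenerateMDecomposition (Cfsg.hermForm n K q) 1 Dd) :
    Cfsg.Geo.IsMaximalIn (Cfsg.GU n K q ⊓ Cfsg.Geo.specialLinear (Fin n) K)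
      (Cfsg.Geo.decompositionStabilizer Dd ⊓ (Cfsg.GU n K q ⊓ Cfsg.Geo.specialLinear (Fin n) K)) :=
  TRANSPORT.maximal D hK hn (fun M hM hN => MAIN.std_of_P2 D hK hn hP2 M hM hN) Dd hD

end Cfsg.Agent.S5655K1
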