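import Mathlib
import Cfsg.Agent.Helper7.S5655.Main0
import Cfsg.Agent.Helper28.S5655P2MAIN

/-! # S5655 `k = 1`: the unitary monomial group `(q+1)^(n-1).S_n` is maximal in `SU_n(q)`, `n ≥ 13`. -/

set_option autoImplicit false

namespace Cfsg.Agent.S5655K1

open Matrix
open Cfsg.Agent.S2644 Cfsg.Agent.Helper2.SUGen Cfsg.Agent.Helper28.SimMax Cfsg.Agent.MonoP

variable {K : Type*} [Field K] {q n : ℕ}

/-- **S5655, case `k = 1`**, with the Frobenius data -/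
theorem K1.maximal_frob (D : Frob K q) [Fintype K] (hK : Fintype.card K = q ^ 2) (hn : 13 ≤ n) {t : ℕ}
    (Dd : Fin t → Submodule K (Fin n → K))
    (hD : Cfsg.Geo.IsNondegenerateMDecomposition (Cfsg.hermForm n K q) 1 Dd) :
    Cfsg.Geo.IsMaximalIn (Cfsg.GU n K q ⊓ Cfsg.Geo.specialLinear (Fin n) K)
      (Cfsg.Geo.decompositionStabilizer Dd ⊓ (Cfsg.GU n K q ⊓ Cfsg.Geo.specialLinear (Fin n) K)) :=
  K1.maximal_of_P2 D hK hn
    (fun hq H e w he hw ha0 ha1 hRe hRw => P2.main D hK hq H e w he hw ha0 ha1 hRe hRw) Dd hD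

/-- **S5655, case `k = 1`** (interface consumed by `Cfsg/Agent/S5655.lean`) -/
theorem K1.maximal {F : Type*} [Field F] [Fintype F] (n q : ℕ) (hF : Fintype.card F = q ^ 2) (hn : 13 ≤ n)
    {t : ℕ} (D : Fin t → Submodule F (Fin n → F))
    (hD : Cfsg.Geo.IsNondegenerateMDecomposition (Cfsg.hermForm n F q) 1 D) :
    Cfsg.Geo.IsMaximalIn (Cfsg.GU n F q ⊓ Cfsg.Geo.specialLinear (Fin n) F)
      (Cfsg.Geo.decompositionStabilizer D ⊓ (Cfsg.GU n F q ⊓ Cfsg.Geo.specialLinear (Fin n) F)) := by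
  obtain ⟨σ, hσ, hσ2⟩ := Cfsg.Agent.Helper28.exists_frob hF
  have hσid := Cfsg.Agent.S0837.frob_ne_id hF σ hσ
  exact K1.maximal_frob ⟨σ, hσ, hσ2, hσid⟩ hF hn D hD

end Cfsg.Agent.S5655K1
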